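import Mathlib

/-! # The three-pointed line: exact differentials with prescribed poles -/

set_option autoImplicit false

open Polynomial

noncomputable section

namespace Groth.Agent.WronskLine

variable {k : Type*} [Field k] (a b : ℕ)

/-- `g ↦` the numerator of `d(g/(X^a (X-1)^b))`. -/
def T : k[X] →ₗ[k] k[X] :=
  LinearMap.mulLeft k (X * (X - 1)) ∘ₗ derivative - LinearMap.mulLeft k (C (a : k) * (X - 1) + C (b : k) * X)

lemma T_apply (g : k[X]) :
    T a b g = X * (X - 1) * derivative g - (C (a : k) * (X - 1) + C (b : k) * X) * g := rfl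

/-- The denominator. -/
def E : k[X] := X ^ a * (X - 1) ^ b

lemma natCast_pow_pred (x : k[X]) (n : ℕ) :
    C (n : k) * x ^ (n - 1) * x = C (n : k) * x ^ n := by
  cases n with
  | zero => simp
  | succ n => rw [Nat.add_sub_cancel, mul_assoc, ← pow_succ]

lemma XY_deriv_E : X * (X - 1) * derivative (E (k := k) a b) =
    (C (a : k) * (X - 1) + C (b : k) * X) * E a b := by
  rw [E, derivative_mul, derivative_pow, derivative_pow, derivative_X, derivative_sub, derivative_X,
    derivative_one]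
  linear_combination ((X : k[X]) - 1) ^ b * (X - 1) * natCast_pow_pred (X : k[X]) a +
    (X : k[X]) ^ a * X * natCast_pow_pred ((X : k[X]) - 1) b

lemma T_E : T a b (E (k := k) a b) = 0 := by
  rw [T_apply, XY_deriv_E, sub_self]

lemma T_E_mul (h : k[X]) : T a b (E (k := k) a b * h) = X * (X - 1) * E a b * derivative h := by
  rw [T_apply, derivative_mul]
  linear_combination h * XY_deriv_E (k := k) a b

lemma natDegree_E : (E (k := k) a b).natDegree = a + b := by
  rw [E, natDegree_mul (pow_ne_zero _ X_ne_zero) (pow_ne_zero _ (by simpa using X_sub_C_ne_zero (1 : k))),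
    natDegree_X_pow, natDegree_pow, show ((X : k[X]) - 1) = X - C 1 by simp, natDegree_X_sub_C, mul_one]

lemma T_sub_smul_E (g : k[X]) (c : k) : T a b (g - C c * E a b) = T a b g := by
  rw [← smul_eq_C_mul, map_sub, map_smul, T_E, smul_zero, sub_zero]

/-- The subspace of numerators. -/
def R : Submodule k k[X] := (degreeLE k ↑(a + b + 1)).map (T a b)

lemma T_mem_R {g : k[X]} (hg : g.natDegree ≤ a + b + 1) : T a b g ∈ R (k := k) a b :=
  ⟨g, mem_degreeLE.mpr (natDegree_le_iff_degree_le.mp hg), rfl⟩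

lemma X_pow_mem [CharZero k] (hb : 0 < b) (n : ℕ) (h1 : a + 1 ≤ n) (h2 : n ≤ a + b) :
    (X : k[X]) ^ n ∈ R a b := by
  have key : ∀ m : ℕ, T a b ((X : k[X]) ^ m) =
      C ((m : k) - a - b) * X ^ (m + 1) + C ((a : k) - m) * X ^ m := fun m => by
    rw [T_apply, derivative_pow, derivative_X, map_sub, map_sub, map_sub]
    linear_combination ((X : k[X]) - 1) * natCast_pow_pred (X : k[X]) m
  obtain ⟨d, hd⟩ := Nat.exists_eq_add_of_le h2
  induction d generalizing n with
  | zero =>
    have h := key n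
    rw [show ((n : k) - a - b) = 0 by rw [show n = a + b by omega]; push_cast; ring, map_zero, zero_mul,
      zero_add, ← smul_eq_C_mul] at h
    have h' : ((a : k) - n)⁻¹ • T a b ((X : k[X]) ^ n) ∈ R a b :=
      Submodule.smul_mem _ _ (T_mem_R a b (by rw [natDegree_X_pow]; omega))
    rwa [h, inv_smul_smul₀ (sub_ne_zero.mpr (by exact_mod_cast (by omega : a ≠ n)))] at h'
  | succ d ih =>
    have h := key n
    have hn : (X : k[X]) ^ (n + 1) ∈ R a b := ih (n + 1) (by omega) (by omega) (by omega)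
    have h' : T a b ((X : k[X]) ^ n) - ((n : k) - a - b) • X ^ (n + 1) ∈ R a b :=
      sub_mem (T_mem_R a b (by rw [natDegree_X_pow]; omega)) (Submodule.smul_mem _ _ hn)
    rw [h, smul_eq_C_mul, add_sub_cancel_left, ← smul_eq_C_mul] at h'
    have h'' := Submodule.smul_mem _ ((a : k) - n)⁻¹ h'
    rwa [inv_smul_smul₀ (sub_ne_zero.mpr (by exact_mod_cast (by omega : a ≠ n)))] at h''

lemma Y_pow_mem [CharZero k] (ha : 0 < a) (n : ℕ) (h1 : b + 1 ≤ n) (h2 : n ≤ a + b) :
    ((X : k[X]) - 1) ^ n ∈ R a b := by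
  have hdeg : ∀ m : ℕ, (((X : k[X]) - 1) ^ m).natDegree = m := fun m => by
    rw [natDegree_pow, show ((X : k[X]) - 1) = X - C 1 by simp, natDegree_X_sub_C, mul_one]
  have key : ∀ m : ℕ, T a b (((X : k[X]) - 1) ^ m) =
      C ((m : k) - a - b) * (X - 1) ^ (m + 1) + C ((m : k) - b) * (X - 1) ^ m := fun m => by
    rw [T_apply, derivative_pow, derivative_sub, derivative_X, derivative_one, map_sub, map_sub, map_sub]
    linear_combination (X : k[X]) * natCast_pow_pred ((X : k[X]) - 1) m
  obtain ⟨d, hd⟩ := Nat.exists_eq_add_of_le h2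
  induction d generalizing n with
  | zero =>
    have h := key n
    rw [show ((n : k) - a - b) = 0 by rw [show n = a + b by omega]; push_cast; ring, map_zero, zero_mul,
      zero_add, ← smul_eq_C_mul] at h
    have h' : ((n : k) - b)⁻¹ • T a b (((X : k[X]) - 1) ^ n) ∈ R a b :=
      Submodule.smul_mem _ _ (T_mem_R a b (by rw [hdeg]; omega))
    rwa [h, inv_smul_smul₀ (sub_ne_zero.mpr (by exact_mod_cast (by omega : n ≠ b)))] at h'
  | succ d ih =>
    have h := key n
    have hn : ((X : k[X]) - 1) ^ (n + 1) ∈ R a b := ih (n + 1) (by omega) (by omega) (by omega)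
    have h' : T a b (((X : k[X]) - 1) ^ n) - ((n : k) - a - b) • (X - 1) ^ (n + 1) ∈ R a b :=
      sub_mem (T_mem_R a b (by rw [hdeg]; omega)) (Submodule.smul_mem _ _ hn)
    rw [h, smul_eq_C_mul, add_sub_cancel_left, ← smul_eq_C_mul] at h'
    have h'' := Submodule.smul_mem _ ((n : k) - b)⁻¹ h'
    rwa [inv_smul_smul₀ (sub_ne_zero.mpr (by exact_mod_cast (by omega : n ≠ b)))] at h''

lemma V_le_R [CharZero k] (ha : 0 < a) (hb : 0 < b) :
    ((Ideal.span {(X : k[X]) ^ (a + 1)}).restrictScalars k ⊓ degreeLE k ↑(a + b)) ⊔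
      ((Ideal.span {((X : k[X]) - 1) ^ (b + 1)}).restrictScalars k ⊓ degreeLE k ↑(a + b)) ⊔
      Submodule.span k {(X : k[X]) ^ (a + 1) * (X - 1) ^ (b + 1)} ≤ R a b := by
  refine sup_le (sup_le ?_ ?_) ?_
  · rintro f ⟨hf, hfd⟩
    have hf' := X_pow_dvd_iff.mp (Ideal.mem_span_singleton.mp hf)
    have hfd' := natDegree_le_iff_degree_le.mpr (mem_degreeLE.mp hfd)
    rw [f.as_sum_range_C_mul_X_pow' (n := a + b + 1) (by omega)]
    refine Submodule.sum_mem _ fun n hn => ?_
    rw [← smul_eq_C_mul]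
    by_cases h : n < a + 1
    · rw [hf' n h, zero_smul]; exact zero_mem _
    · exact Submodule.smul_mem _ _ (X_pow_mem a b hb n (by omega) (by simp at hn; omega))
  · rintro f ⟨hf, hfd⟩
    have hfd' := natDegree_le_iff_degree_le.mpr (mem_degreeLE.mp hfd)
    obtain ⟨r, hr⟩ := Ideal.mem_span_singleton.mp hf
    have hu : (X : k[X]) ^ (b + 1) ∣ taylor 1 f := by
      rw [hr, taylor_mul, taylor_pow, show taylor (1 : k) (X - 1) = X by simp]
      exact dvd_mul_right _ _
    have hu' := X_pow_dvd_iff.mp hu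
    have hd : (taylor 1 f).natDegree ≤ a + b := by rw [natDegree_taylor]; exact hfd'
    rw [← sum_taylor_eq f 1, sum_over_range' _ (by simp) (a + b + 1) (by omega)]
    refine Submodule.sum_mem _ fun n hn => ?_
    rw [← smul_eq_C_mul, map_one]
    by_cases h : n < b + 1
    · rw [hu' n h, zero_smul]; exact zero_mem _
    · exact Submodule.smul_mem _ _ (Y_pow_mem a b ha n (by omega) (by simp at hn; omega))
  · rw [Submodule.span_le, Set.singleton_subset_iff]
    have h : T a b (E (k := k) a b * X) = X ^ (a + 1) * (X - 1) ^ (b + 1) := by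
      rw [T_E_mul, derivative_X, E]; ring
    rw [← h]
    refine T_mem_R a b (natDegree_mul_le.trans ?_)
    rw [natDegree_E, natDegree_X]

/-- Vanishing of `T g` at `r` forces vanishing of `g - c E`. -/
lemma exists_dvd_sub (r : k) (g : k[X]) (m : ℕ)
    (H : ∀ j < m, (∃ e : k[X], E a b = (X - C r) ^ j * e ∧ e.eval r ≠ 0) ∨
      ∀ u : k[X], T a b g = T a b ((X - C r) ^ j * u) → u.eval r = 0) :
    ∃ c, (X - C r) ^ m ∣ g - C c * E a b := by
  induction m with
  | zero => exact ⟨0, by simp⟩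
  | succ m ih =>
    obtain ⟨c, u, hu⟩ := ih fun j hj => H j (hj.trans (Nat.lt_succ_self m))
    rcases H m (Nat.lt_succ_self m) with ⟨e, he, her⟩ | h
    · refine ⟨c + u.eval r / e.eval r, ?_⟩
      obtain ⟨v, hv⟩ : X - C r ∣ u - C (u.eval r / e.eval r) * e := by
        rw [dvd_iff_isRoot]
        simp [IsRoot, div_mul_cancel₀ _ her]
      refine ⟨v, ?_⟩
      rw [map_add, pow_succ]
      linear_combination hu + (X - C r) ^ m * hv - C (u.eval r / e.eval r) * he
    · obtain ⟨v, hv⟩ : X - C r ∣ u := dvd_iff_isRoot.mpr (h u (by rw [← hu, T_sub_smul_E]))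
      exact ⟨c, v, by rw [hu, hv, pow_succ, mul_assoc]⟩

lemma exists_dvd_generic [CharZero k] (r : k) (h0 : r ≠ 0) (h1 : r ≠ 1) (g : k[X]) (m : ℕ)
    (hm : (X - C r) ^ m ∣ T a b g) : ∃ c, (X - C r) ^ (m + 1) ∣ g - C c * E a b := by
  refine exists_dvd_sub a b r g (m + 1) fun j hj => ?_
  cases j with
  | zero => exact Or.inl ⟨E a b, by simp, by simp [E, h0, sub_ne_zero.mpr h1]⟩
  | succ j =>
    refine Or.inr fun u hu => ?_
    obtain ⟨w, hw⟩ := (pow_dvd_pow (X - C r) (by omega : j + 1 ≤ m)).trans hm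
    rw [hu, T_apply, derivative_mul, derivative_pow_succ, derivative_X_sub_C] at hw
    have h2 : (X - C r) ^ j * (X * (X - 1) * C ((j : k) + 1) * u) =
        (X - C r) ^ j * ((X - C r) * (w + (C (a : k) * (X - 1) + C (b : k) * X) * u -
          X * (X - 1) * derivative u)) := by
      linear_combination hw
    have h3 := congrArg (eval r) (mul_left_cancel₀ (pow_ne_zero _ (X_sub_C_ne_zero r)) h2)
    simp [h0, sub_ne_zero.mpr h1, Nat.cast_add_one_ne_zero] at h3
    exact h3

lemma exists_dvd_zero [CharZero k] (g : k[X]) (m : ℕ) (hm : X ^ m ∣ T a b g) :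
    ∃ c, X ^ m ∣ g - C c * E a b := by
  have := exists_dvd_sub a b (0 : k) g m fun j hj => by
    rcases eq_or_ne j a with rfl | hja
    · exact Or.inl ⟨(X - 1) ^ b, by simp [E], by simp⟩
    refine Or.inr fun u hu => ?_
    obtain ⟨w, hw⟩ := (pow_dvd_pow (X : k[X]) (by omega : j + 1 ≤ m)).trans hm
    rw [hu, map_zero, sub_zero, T_apply, derivative_mul, derivative_pow, derivative_X] at hw
    have h2 : (X : k[X]) ^ j * ((C (j : k) - C (a : k)) * (X - 1) * u) =
        X ^ j * (X * (w + C (b : k) * u - (X - 1) * derivative u)) := by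
      linear_combination hw - (X - 1) * u * natCast_pow_pred (X : k[X]) j
    have h3 := congrArg (eval (0 : k)) (mul_left_cancel₀ (pow_ne_zero _ X_ne_zero) h2)
    simp [sub_eq_zero, hja, hja.symm] at h3
    exact h3
  simpa using this

lemma exists_dvd_one [CharZero k] (g : k[X]) (m : ℕ) (hm : (X - C 1) ^ m ∣ T a b g) :
    ∃ c, (X - C 1) ^ m ∣ g - C c * E a b := by
  refine exists_dvd_sub a b (1 : k) g m fun j hj => ?_
  rcases eq_or_ne j b with rfl | hjb
  · exact Or.inl ⟨X ^ a, by simp [E, mul_comm], by simp⟩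
  refine Or.inr fun u hu => ?_
  obtain ⟨w, hw⟩ := (pow_dvd_pow (X - C (1 : k)) (by omega : j + 1 ≤ m)).trans hm
  rw [hu, map_one, T_apply, derivative_mul, derivative_pow, derivative_sub, derivative_X, derivative_one] at hw
  have h2 : ((X : k[X]) - 1) ^ j * ((C (j : k) - C (b : k)) * X * u) =
      (X - 1) ^ j * ((X - 1) * (w + C (a : k) * u - X * derivative u)) := by
    linear_combination hw - X * u * natCast_pow_pred ((X : k[X]) - 1) j
  have h3 := congrArg (eval (1 : k)) (mul_left_cancel₀ (pow_ne_zero _ (by simpa using X_sub_C_ne_zero (1 : k))) h2)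
  simp [sub_eq_zero, hjb, hjb.symm] at h3
  exact h3

lemma eq_zero_of_dvd {g P : k[X]} (c : k) (hg : g.natDegree ≤ a + b + 1) (hP : a + b + 1 < P.natDegree)
    (h : P ∣ g - C c * E a b) : T a b g = 0 := by
  rw [← T_sub_smul_E a b g c, eq_zero_of_dvd_of_natDegree_lt h, map_zero]
  refine lt_of_le_of_lt ((natDegree_sub_le _ _).trans (max_le hg ((natDegree_C_mul_le _ _).trans ?_))) hP
  rw [natDegree_E]; omega

lemma natDegree_pow_mul_pow (p q : k) (i j : ℕ) : ((X - C p) ^ i * (X - C q) ^ j).natDegree = i + j := by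
  rw [natDegree_mul (pow_ne_zero _ (X_sub_C_ne_zero p)) (pow_ne_zero _ (X_sub_C_ne_zero q)), natDegree_pow,
    natDegree_pow, natDegree_X_sub_C, natDegree_X_sub_C, mul_one, mul_one]

lemma isCoprime_pow (p q : k) (h : p ≠ q) (i j : ℕ) : IsCoprime ((X - C p) ^ i) ((X - C q) ^ j) :=
  (isCoprime_X_sub_C_of_isUnit_sub (sub_ne_zero.mpr h).isUnit).pow

end Groth.Agent.WronskLine
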